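import Groth.Agent.Lib.K0Sub.Basic
import Groth.Agent.Lib.TriCat.Coproduct
import Groth.Agent.Lib.DerCat.Truncation
import Mathlib.Algebra.Homology.DerivedCategory.TStructure
import Mathlib.Algebra.Homology.DerivedCategory.HomologySequence
import Mathlib.CategoryTheory.Triangulated.TStructure.TruncLTGE
import Mathlib.Algebra.BigOperators.Finprod
import Mathlib.CategoryTheory.ObjectProperty.Kernels
import Mathlib.CategoryTheory.ObjectProperty.ContainsZero
import Mathlib.Data.Int.Interval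

/-! # `K₀` of bounded objects with cohomology in a class is `K₀` of the class -/

set_option autoImplicit false
universe w v u

open CategoryTheory CategoryTheory.Limits CategoryTheory.Pretriangulated DerivedCategory
open scoped ZeroObject

namespace GrothLib.KDer

section Tr

variable {D : Type u} [Category.{v} D] [Preadditive D] [HasZeroObject D] [HasShift D ℤ]
  [∀ n : ℤ, (shiftFunctor D n).Additive] [Pretriangulated D] {Q : ObjectProperty D}

theorem clTr_eq_mk {X : D} (h : Q X) :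
    KZero.clTr Q X = QuotientAddGroup.mk (FreeAbelianGroup.of ⟨X, h⟩) := dif_pos h

theorem clTr_add {T : Triangle D} (hT : T ∈ distTriang D) (h₁ : Q T.obj₁) (h₂ : Q T.obj₂) (h₃ : Q T.obj₃) :
    KZero.clTr Q T.obj₂ = KZero.clTr Q T.obj₁ + KZero.clTr Q T.obj₃ := by
  rw [clTr_eq_mk h₁, clTr_eq_mk h₂, clTr_eq_mk h₃, ← QuotientAddGroup.mk_add, eq_comm,
    QuotientAddGroup.eq]
  refine AddSubgroup.subset_closure ⟨T, h₁, h₂, h₃, hT, ?_⟩
  abel

theorem clTr_isZero {Z : D} (hZ : IsZero Z) (h : Q Z) : KZero.clTr Q Z = 0 := by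
  have h' := clTr_add (T := Triangle.mk (𝟙 Z) (0 : Z ⟶ Z) 0)
    (isomorphic_distinguished _ (contractible_distinguished Z) _
      (Triangle.isoMk _ _ (Iso.refl _) (Iso.refl _) hZ.isoZero rfl (hZ.eq_of_src _ _)
        (hZ.eq_of_src _ _))) h h h
  change KZero.clTr Q Z = KZero.clTr Q Z + KZero.clTr Q Z at h'
  exact left_eq_add.mp h'

theorem clTr_iso [Q.IsClosedUnderIsomorphisms] (h0 : Q (0 : D)) {X Y : D} (e : X ≅ Y) :
    KZero.clTr Q X = KZero.clTr Q Y := by
  by_cases hX : Q X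
  · have h := clTr_add (T := Triangle.mk e.hom (0 : Y ⟶ (0 : D)) 0)
      (isomorphic_distinguished _ (contractible_distinguished X) _
        (Triangle.isoMk _ _ (Iso.refl _) e.symm (Iso.refl _) (e.hom_inv_id.trans (Category.comp_id _).symm)
          ((isZero_zero D).eq_of_tgt _ _) ((isZero_zero D).eq_of_src _ _))) hX (Q.prop_of_iso e hX) h0
    change KZero.clTr Q Y = KZero.clTr Q X + KZero.clTr Q (0 : D) at h
    rw [h, clTr_isZero (isZero_zero D) h0, add_zero]
  · have hY : ¬ Q Y := fun hY => hX (Q.prop_of_iso e.symm hY)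
    simp only [KZero.clTr, dif_neg hX, dif_neg hY]

theorem clTr_shift_one (h0 : Q (0 : D)) {X : D} (hX : Q X) (hX' : Q (X⟦(1 : ℤ)⟧)) :
    KZero.clTr Q (X⟦(1 : ℤ)⟧) = -KZero.clTr Q X := by
  have h := clTr_add (rot_of_distTriang _ (contractible_distinguished X)) hX h0 hX'
  change KZero.clTr Q (0 : D) = KZero.clTr Q X + KZero.clTr Q (X⟦(1 : ℤ)⟧) at h
  rw [clTr_isZero (isZero_zero D) h0] at h
  exact (neg_eq_of_add_eq_zero_right h.symm).symm

theorem exists_lift {G : Type*} [AddCommGroup G] (φ : D → G)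
    (h : ∀ T : Triangle D, T ∈ distTriang D → Q T.obj₁ → Q T.obj₂ → Q T.obj₃ →
      φ T.obj₂ = φ T.obj₁ + φ T.obj₃) :
    ∃ ψ : KZero.K0tr Q →+ G, ∀ X, Q X → ψ (KZero.clTr Q X) = φ X := by
  let ψ₀ : FreeAbelianGroup (Subtype Q) →+ G := FreeAbelianGroup.lift fun X => φ X.1
  have hle : KZero.relTr Q ≤ ψ₀.ker := by
    rw [KZero.relTr, AddSubgroup.closure_le]
    rintro x ⟨T, h₁, h₂, h₃, hT, rfl⟩
    simp [ψ₀, h T hT h₁ h₂ h₃]
  exact ⟨QuotientAddGroup.lift _ ψ₀ hle, fun X hX => by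
    rw [clTr_eq_mk hX]
    exact FreeAbelianGroup.lift_apply_of _ _⟩

end Tr

variable {A : Type u} [Category.{v} A] [Abelian A] [HasDerivedCategory.{w} A]
  (P : ObjectProperty A) (Q : ObjectProperty (DerivedCategory A))

theorem isZero_homology_single (X : A) (n i : ℤ) (h : i ≠ n) :
    IsZero ((homologyFunctor A i).obj ((singleFunctor A n).obj X)) := by
  rcases lt_or_gt_of_ne h with h | h
  · exact isZero_of_isGE _ n i h
  · exact isZero_of_isLE _ n i h

/-- The Euler characteristic of the cohomology objects. -/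
noncomputable def chi (X : DerivedCategory A) : KZero.K0sub P :=
  ∑ᶠ i : ℤ, (i.negOnePow : ℤ) • KZero.clSub P ((homologyFunctor A i).obj X)

variable {P}

theorem clSub_congr [P.IsClosedUnderIsomorphisms] [P.ContainsZero] {X Y : A} (e : X ≅ Y) :
    KZero.clSub P X = KZero.clSub P Y := by
  by_cases hX : P X
  · obtain ⟨Z, hZ, hPZ⟩ := P.exists_prop_of_containsZero
    have h := K0Sub.clSub_add (K0Sub.shortExact_kernel e.hom)
      (P.prop_of_iso (hZ.iso (isZero_kernel_of_mono e.hom)) hPZ) hX (P.prop_of_iso e hX)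
    change KZero.clSub P X = KZero.clSub P (kernel e.hom) + KZero.clSub P Y at h
    rw [h, K0Sub.clSub_isZero (isZero_kernel_of_mono e.hom), zero_add]
  · have hY : ¬ P Y := fun hY => hX (P.prop_of_iso e.symm hY)
    simp only [KZero.clSub, dif_neg hX, dif_neg hY]

variable [P.IsClosedUnderIsomorphisms] [P.ContainsZero] [P.IsClosedUnderKernels]

theorem prop_kernel {X Y : A} (f : X ⟶ Y) (hX : P X) (hY : P Y) : P (kernel f) :=
  P.prop_of_isLimit_kernelFork (k := limit.cone _) (limit.isLimit _) hX hY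

theorem clSub_eq_kernel_add {S : ShortComplex A} (hS : S.Exact) (h₁ : P S.X₁) (h₂ : P S.X₂) (h₃ : P S.X₃) :
    KZero.clSub P S.X₁ = KZero.clSub P (kernel S.f) + KZero.clSub P (kernel S.g) := by
  let g : S.X₁ ⟶ kernel S.g := kernel.lift S.g S.f S.zero
  have : Epi g := S.exact_iff_epi_kernel_lift.1 hS
  let e : kernel g ≅ kernel S.f :=
    (kernelCompMono g (kernel.ι S.g)).symm ≪≫ kernelIsoOfEq (kernel.lift_ι _ _ _)
  have hk : P (kernel g) := P.prop_of_iso e.symm (prop_kernel S.f h₁ h₂)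
  rw [← clSub_congr e]
  exact K0Sub.clSub_add (K0Sub.shortExact_kernel g) hk h₁ (prop_kernel S.g h₂ h₃)

omit [P.IsClosedUnderKernels] in
omit [P.IsClosedUnderIsomorphisms] [P.ContainsZero] in
theorem finite_support_chi {X : DerivedCategory A} (hX : ∃ a b : ℤ, X.IsGE a ∧ X.IsLE b) (F : ℤ → KZero.K0sub P)
    (hF : ∀ i, IsZero ((homologyFunctor A i).obj X) → F i = 0) : (Function.support F).Finite := by
  obtain ⟨a, b, ha, hb⟩ := hX
  refine (Set.finite_Icc a b).subset fun i hi => ?_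
  by_contra h
  simp only [Set.mem_Icc, not_and_or, not_le] at h
  refine hi (hF i ?_)
  rcases h with h | h
  · exact isZero_of_isGE X a i h
  · exact isZero_of_isLE X b i h

/-- Additivity of the Euler characteristic. -/
theorem chi_add (T : Triangle (DerivedCategory A)) (hT : T ∈ distTriang _)
    (hb₁ : ∃ a b : ℤ, T.obj₁.IsGE a ∧ T.obj₁.IsLE b) (hb₂ : ∃ a b : ℤ, T.obj₂.IsGE a ∧ T.obj₂.IsLE b)
    (hb₃ : ∃ a b : ℤ, T.obj₃.IsGE a ∧ T.obj₃.IsLE b)
    (h₁ : ∀ i, P ((homologyFunctor A i).obj T.obj₁)) (h₂ : ∀ i, P ((homologyFunctor A i).obj T.obj₂))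
    (h₃ : ∀ i, P ((homologyFunctor A i).obj T.obj₃)) :
    chi P T.obj₂ = chi P T.obj₁ + chi P T.obj₃ := by
  let F := homologyFunctor A 0
  let k₁ : ℤ → KZero.K0sub P := fun i => KZero.clSub P (kernel ((homologyFunctor A i).map T.mor₁))
  let k₂ : ℤ → KZero.K0sub P := fun i => KZero.clSub P (kernel ((homologyFunctor A i).map T.mor₂))
  let k₃ : ℤ → KZero.K0sub P := fun i =>
    KZero.clSub P (kernel (HomologySequence.δ T i (i + 1) rfl))
  let c : DerivedCategory A → ℤ → KZero.K0sub P := fun X i => KZero.clSub P ((homologyFunctor A i).obj X)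
  have e1 : ∀ i, c T.obj₁ i = k₁ i + k₂ i := fun i =>
    clSub_eq_kernel_add (HomologySequence.exact₂ T hT i) (h₁ i) (h₂ i) (h₃ i)
  have e2 : ∀ i, c T.obj₂ i = k₂ i + k₃ i := fun i =>
    clSub_eq_kernel_add (HomologySequence.exact₃ T hT i (i + 1) rfl) (h₂ i) (h₃ i) (h₁ (i + 1))
  have e3 : ∀ i, c T.obj₃ i = k₃ i + k₁ (i + 1) := fun i =>
    clSub_eq_kernel_add (HomologySequence.exact₁ T hT i (i + 1) rfl) (h₃ i) (h₁ (i + 1)) (h₂ (i + 1))
  have z : ∀ (X : DerivedCategory A) i, IsZero ((homologyFunctor A i).obj X) → c X i = 0 := fun X i h =>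
    K0Sub.clSub_isZero h
  have zk : ∀ {M N : A} (g : M ⟶ N), IsZero M → KZero.clSub P (kernel g) = 0 := fun g hM =>
    K0Sub.clSub_isZero (IsZero.of_mono (kernel.ι g) hM)
  let s : ℤ → ℤ := fun i => (i.negOnePow : ℤ)
  have hs : ∀ (X : DerivedCategory A) (G : ℤ → KZero.K0sub P), (∃ a b : ℤ, X.IsGE a ∧ X.IsLE b) →
      (∀ i, IsZero ((homologyFunctor A i).obj X) → G i = 0) →
      (Function.support fun i => s i • G i).Finite := fun X G hX hG =>
    finite_support_chi hX _ fun i hi => by rw [hG i hi, smul_zero]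
  have f1 := hs T.obj₁ k₁ hb₁ fun i hi => zk _ hi
  have f2 := hs T.obj₂ k₂ hb₂ fun i hi => zk _ hi
  have f3 := hs T.obj₃ k₃ hb₃ fun i hi => zk _ hi
  have f1' : (Function.support fun i => s i • k₁ (i + 1)).Finite := by
    refine (f1.image (fun i => i - 1)).subset fun i hi => ⟨i + 1, fun h0 => hi ?_, by simp⟩
    simp only [s, Int.negOnePow_succ, Units.val_neg, neg_smul, neg_eq_zero] at h0
    exact h0
  have tel : ∑ᶠ i, s i • k₁ (i + 1) = -∑ᶠ i, s i • k₁ i := by
    rw [← finsum_neg_distrib]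
    refine Eq.trans ?_ (finsum_comp_equiv (Equiv.addRight (1 : ℤ)) (f := fun i => -(s i • k₁ i)))
    refine finsum_congr fun i => ?_
    simp [s, Int.negOnePow_succ]
  have x1 : chi P T.obj₁ = (∑ᶠ i, s i • k₁ i) + ∑ᶠ i, s i • k₂ i := by
    rw [← finsum_add_distrib f1 f2]
    exact finsum_congr fun i => by rw [← smul_add, ← e1]
  have x2 : chi P T.obj₂ = (∑ᶠ i, s i • k₂ i) + ∑ᶠ i, s i • k₃ i := by
    rw [← finsum_add_distrib f2 f3]
    exact finsum_congr fun i => by rw [← smul_add, ← e2]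
  have x3 : chi P T.obj₃ = (∑ᶠ i, s i • k₃ i) + ∑ᶠ i, s i • k₁ (i + 1) := by
    rw [← finsum_add_distrib f3 f1']
    exact finsum_congr fun i => by rw [← smul_add, ← e3]
  rw [x1, x2, x3, tel]
  abel

theorem chi_single (X : A) : chi P ((singleFunctor A 0).obj X) = KZero.clSub P X := by
  rw [chi, finsum_eq_single _ 0 fun i hi => ?_]
  · simp only [Int.negOnePow_zero, Units.val_one, one_smul]
    exact clSub_congr ((singleFunctorCompHomologyFunctorIso A 0).app X)
  · rw [K0Sub.clSub_isZero (isZero_homology_single X 0 i hi), smul_zero]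

/-- **`K₀` of bounded objects with cohomology in `P` is `K₀` of `P`.** -/
theorem exists_equiv
    (hQ : ∀ X, Q X ↔ (∀ i, P ((homologyFunctor A i).obj X)) ∧ ∃ a b : ℤ, X.IsGE a ∧ X.IsLE b) :
    ∃ φ : KZero.K0sub P ≃+ KZero.K0tr Q, ∀ X, P X →
      φ (KZero.clSub P X) = KZero.clTr Q ((singleFunctor A 0).obj X) := by
  have hP0 : ∀ {Z : A}, IsZero Z → P Z := fun hZ => by
    obtain ⟨Z₀, hZ₀, hP⟩ := P.exists_prop_of_containsZero
    exact P.prop_of_iso (hZ₀.iso hZ) hP
  have hQi : Q.IsClosedUnderIsomorphisms := ⟨fun {X Y} e hX => by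
    rw [hQ] at hX ⊢
    obtain ⟨h, a, b, ha, hb⟩ := hX
    exact ⟨fun i => P.prop_of_iso ((homologyFunctor A i).mapIso e) (h i), a, b,
      TStructure.t.isGE_of_iso e a, TStructure.t.isLE_of_iso e b⟩⟩
  have hQs : ∀ (X : A) (n : ℤ), P X → Q ((singleFunctor A n).obj X) := fun X n hX =>
    (hQ _).2 ⟨fun i => by
      by_cases h : i = n
      · subst h; exact P.prop_of_iso ((singleFunctorCompHomologyFunctorIso A i).app X).symm hX
      · exact hP0 (isZero_homology_single X n i h), n, n, inferInstance, inferInstance⟩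
  have hQ0 : Q (0 : DerivedCategory A) := (hQ _).2
    ⟨fun i => hP0 ((homologyFunctor A i).map_isZero (isZero_zero _)), 0, 0,
      (isGE_iff _ _).2 fun i _ => (homologyFunctor A i).map_isZero (isZero_zero _),
      (isLE_iff _ _).2 fun i _ => (homologyFunctor A i).map_isZero (isZero_zero _)⟩
  obtain ⟨f, hf⟩ := K0Sub.exists_lift (P := P) (fun X => KZero.clTr Q ((singleFunctor A 0).obj X))
    fun S hS h₁ h₂ h₃ =>
      clTr_add hS.singleTriangle_distinguished (hQs _ 0 h₁) (hQs _ 0 h₂) (hQs _ 0 h₃)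
  obtain ⟨g, hg⟩ := exists_lift (Q := Q) (chi P) fun T hT h₁ h₂ h₃ =>
    chi_add T hT ((hQ _).1 h₁).2 ((hQ _).1 h₂).2 ((hQ _).1 h₃).2 ((hQ _).1 h₁).1 ((hQ _).1 h₂).1 ((hQ _).1 h₃).1
  have hgf : g.comp f = AddMonoidHom.id _ := K0Sub.hom_ext fun X hX => by
    rw [AddMonoidHom.comp_apply, hf X hX, hg _ (hQs X 0 hX), AddMonoidHom.id_apply, chi_single]
  have hsingle : ∀ (n : ℤ) (X : A), P X → KZero.clTr Q ((singleFunctor A n).obj X) ∈ f.range := by
    intro n
    have step : ∀ (m : ℤ) (X : A), P X → KZero.clTr Q ((singleFunctor A m).obj X) =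
        -KZero.clTr Q ((singleFunctor A (m + 1)).obj X) := fun m X hX => by
      let e : ((singleFunctor A (m + 1)).obj X)⟦(1 : ℤ)⟧ ≅ (singleFunctor A m).obj X :=
        ((singleFunctors A).shiftIso 1 m (m + 1) (by omega)).app X
      rw [← clTr_iso hQ0 e]
      exact clTr_shift_one hQ0 (hQs X _ hX) (Q.prop_of_iso e.symm (hQs X _ hX))
    induction n using Int.induction_on with
    | zero => exact fun X hX => ⟨KZero.clSub P X, hf X hX⟩
    | succ i ih =>
      intro X hX
      have := ih X hX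
      rw [step _ X hX] at this
      exact neg_mem_iff.1 this
    | pred i ih =>
      intro X hX
      rw [step _ X hX, sub_add_cancel]
      exact neg_mem (ih X hX)
  have hsurj : ∀ (n : ℕ) (a : ℤ) (X : DerivedCategory A), Q X → X.IsGE a → X.IsLE (a + n - 1) →
      KZero.clTr Q X ∈ f.range := by
    intro n
    induction n with
    | zero =>
      intro a X hX ha hb
      have : IsZero X := TStructure.t.isZero X (a + (0 : ℕ) - 1) a (by omega)
      rw [clTr_isZero this hX]
      exact zero_mem _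
    | succ n ih =>
      intro a X hX ha hb
      let T := (TStructure.t.triangleLTGE (a + 1)).obj X
      have hT : T ∈ distTriang _ := TStructure.t.triangleLTGE_distinguished _ _
      have l1 : (T.obj₁).IsLE a := inferInstanceAs (TStructure.t.IsLE ((TStructure.t.truncLT (a + 1)).obj X) a)
      have g1 : (T.obj₁).IsGE a := inferInstanceAs (TStructure.t.IsGE ((TStructure.t.truncLT (a + 1)).obj X) a)
      have g3 : (T.obj₃).IsGE (a + 1) :=
        inferInstanceAs (TStructure.t.IsGE ((TStructure.t.truncGE (a + 1)).obj X) (a + 1))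
      have l3 : (T.obj₃).IsLE (a + (n + 1 : ℕ) - 1) :=
        inferInstanceAs (TStructure.t.IsLE ((TStructure.t.truncGE (a + 1)).obj X) (a + (n + 1 : ℕ) - 1))
      obtain ⟨H, ⟨e⟩⟩ := (T.obj₁).exists_iso_singleFunctor_obj_of_isGE_of_isLE a
      have hH : P H := by
        have := DerTrunc.isIso_homology_truncLTι X (a + 1) a (by omega)
        exact P.prop_of_iso ((asIso ((homologyFunctor A a).map ((TStructure.t.truncLTι (a + 1)).app X))).symm ≪≫
          (homologyFunctor A a).mapIso e ≪≫ (singleFunctorCompHomologyFunctorIso A a).app H) (((hQ X).1 hX).1 a)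
      have q1 : Q T.obj₁ := Q.prop_of_iso e.symm (hQs H a hH)
      have q3 : Q T.obj₃ := (hQ _).2 ⟨fun i => by
        rcases lt_or_ge i (a + 1) with hi | hi
        · exact hP0 (isZero_of_isGE _ (a + 1) i hi)
        · exact P.prop_of_iso (@asIso _ _ _ _ _ (DerTrunc.isIso_homology_truncGEπ X (a + 1) i hi))
            (((hQ X).1 hX).1 i), a + 1, _, g3, l3⟩
      rw [show KZero.clTr Q X = _ from clTr_add hT q1 hX q3, clTr_iso hQ0 e]
      refine add_mem (hsingle a H hH) (ih (a + 1) _ q3 g3 ?_)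
      rw [show a + 1 + (n : ℤ) - 1 = a + (n + 1 : ℕ) - 1 by omega]
      exact l3
  refine ⟨AddEquiv.ofBijective f ⟨Function.LeftInverse.injective (g := g) fun x => DFunLike.congr_fun hgf x,
    fun y => ?_⟩, hf⟩
  obtain ⟨y, rfl⟩ := QuotientAddGroup.mk_surjective y
  show _ ∈ f.range
  induction y using FreeAbelianGroup.induction_on with
  | zero => exact zero_mem _
  | of X =>
    obtain ⟨hP, a, b, ha, hb⟩ := (hQ X.1).1 X.2
    rw [← clTr_eq_mk X.2]
    refine hsurj (b + 1 - a).toNat a X.1 X.2 ha ?_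
    exact TStructure.t.isLE_of_le X.1 b _ (by omega)
  | neg X h => exact neg_mem h
  | add x y hx hy => exact add_mem hx hy

end GrothLib.KDer
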