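import Groth.Agent.Lib.KDer.Heart
import Mathlib.CategoryTheory.ObjectProperty.Kernels

/-! # `K₀` of an abelian category as a `K0sub` -/

set_option autoImplicit false
universe w v u

open CategoryTheory CategoryTheory.Limits
open scoped ZeroObject

namespace GrothLib.KDer

variable {A : Type u} [Category.{v} A] [Abelian A]

theorem nonempty_equiv_top : ∃ e : KZero.K0 A ≃+ KZero.K0sub (⊤ : ObjectProperty A),
    ∀ X : A, e (KZero.cl X) = KZero.clSub ⊤ X := by
  let f₀ : FreeAbelianGroup A →+ KZero.K0sub (⊤ : ObjectProperty A) :=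
    FreeAbelianGroup.lift fun X => KZero.clSub ⊤ X
  have hle : KZero.relAb A ≤ f₀.ker := by
    rw [KZero.relAb, AddSubgroup.closure_le]
    rintro x ⟨S, hS, rfl⟩
    simp [f₀, K0Sub.clSub_add (P := (⊤ : ObjectProperty A)) hS trivial trivial trivial]
  let f : KZero.K0 A →+ KZero.K0sub (⊤ : ObjectProperty A) := QuotientAddGroup.lift _ f₀ hle
  have hf : ∀ X : A, f (KZero.cl X) = KZero.clSub ⊤ X := fun X => FreeAbelianGroup.lift_apply_of _ _
  obtain ⟨g, hg⟩ := K0Sub.exists_lift (P := (⊤ : ObjectProperty A)) (fun X => KZero.cl X) fun S hS _ _ _ => by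
    rw [KZero.cl, KZero.cl, KZero.cl, ← QuotientAddGroup.mk_add, eq_comm, QuotientAddGroup.eq]
    refine AddSubgroup.subset_closure ⟨S, hS, ?_⟩
    abel
  have h1 : g.comp f = AddMonoidHom.id _ := QuotientAddGroup.addMonoidHom_ext _
    (FreeAbelianGroup.lift_ext _ _ fun X => (congrArg g (hf X)).trans (hg X trivial))
  have h2 : f.comp g = AddMonoidHom.id _ := K0Sub.hom_ext fun X hX => by
    rw [AddMonoidHom.comp_apply, hg X hX, hf, AddMonoidHom.id_apply]
  exact ⟨AddMonoidHom.toAddEquiv f g h1 h2, hf⟩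

theorem exists_equiv_bounded [HasDerivedCategory.{w} A] :
    ∃ φ : KZero.K0 A ≃+ KZero.K0tr (fun X : DerivedCategory A => ∃ a b : ℤ, X.IsGE a ∧ X.IsLE b),
      ∀ X : A, φ (KZero.cl X) =
        KZero.clTr (fun X : DerivedCategory A => ∃ a b : ℤ, X.IsGE a ∧ X.IsLE b)
          ((DerivedCategory.singleFunctor A 0).obj X) := by
  obtain ⟨e, he⟩ := nonempty_equiv_top (A := A)
  have : (⊤ : ObjectProperty A).IsClosedUnderKernels := ⟨fun _ _ => trivial⟩
  have : (⊤ : ObjectProperty A).ContainsZero := ⟨⟨0, isZero_zero A, trivial⟩⟩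
  obtain ⟨φ, hφ⟩ := exists_equiv (P := (⊤ : ObjectProperty A))
    (fun X : DerivedCategory A => ∃ a b : ℤ, X.IsGE a ∧ X.IsLE b)
    fun X => ⟨fun h => ⟨fun _ => trivial, h⟩, fun h => h.2⟩
  exact ⟨e.trans φ, fun X => by rw [AddEquiv.trans_apply, he]; exact hφ X trivial⟩

end GrothLib.KDer
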