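import Groth.Agent.Lib.KDer.Heart

/-! # Transport of `K0tr` along a fully faithful exact functor -/

set_option autoImplicit false
universe v v' u u'

open CategoryTheory CategoryTheory.Limits CategoryTheory.Pretriangulated
open scoped ZeroObject

namespace GrothLib.KDer

variable {D : Type u} [Category.{v} D] [Preadditive D] [HasZeroObject D] [HasShift D ℤ]
  [∀ n : ℤ, (shiftFunctor D n).Additive] [Pretriangulated D]
  {D' : Type u'} [Category.{v'} D'] [Preadditive D'] [HasZeroObject D'] [HasShift D' ℤ]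
  [∀ n : ℤ, (shiftFunctor D' n).Additive] [Pretriangulated D']

/-- A fully faithful exact functor induces an iso of `K0tr` on properties it identifies. -/
theorem exists_transport (F : D ⥤ D') [F.CommShift ℤ] [F.IsTriangulated] [F.Full] [F.Faithful]
    (Q : ObjectProperty D) (Q' : ObjectProperty D') [Q.IsClosedUnderIsomorphisms] (h0 : Q (0 : D))
    [Q'.IsClosedUnderIsomorphisms] (h0' : Q' (0 : D'))
    (h : ∀ X, Q' (F.obj X) ↔ Q X) (hs : ∀ Y, Q' Y → ∃ X, Nonempty (F.obj X ≅ Y)) :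
    ∃ φ : KZero.K0tr Q ≃+ KZero.K0tr Q', ∀ X, Q X → φ (KZero.clTr Q X) = KZero.clTr Q' (F.obj X) := by
  classical
  obtain ⟨f, hf⟩ := exists_lift (Q := Q) (fun X => KZero.clTr Q' (F.obj X)) fun T hT h₁ h₂ h₃ =>
    clTr_add (F.map_distinguished T hT) ((h _).2 h₁) ((h _).2 h₂) ((h _).2 h₃)
  let pre : D' → D := fun Y => if hY : Q' Y then (hs Y hY).choose else 0
  have hpre : ∀ Y, Q' Y → Nonempty (F.obj (pre Y) ≅ Y) := fun Y hY => by
    simp only [pre, dif_pos hY]
    exact (hs Y hY).choose_spec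
  have key : ∀ (Y : D') (X : D), Q' Y → (F.obj X ≅ Y) → KZero.clTr Q (pre Y) = KZero.clTr Q X :=
    fun Y X hY e => clTr_iso h0 (F.preimageIso ((hpre Y hY).some ≪≫ e.symm))
  obtain ⟨g, hg⟩ := exists_lift (Q := Q') (fun Y => KZero.clTr Q (pre Y)) fun T hT h₁ h₂ h₃ => by
    let e₁ := (hpre _ h₁).some
    let e₂ := (hpre _ h₂).some
    obtain ⟨Z, a, b, hZ⟩ := distinguished_cocone_triangle (F.preimage (e₁.hom ≫ T.mor₁ ≫ e₂.inv))
    let E := isoTriangleOfIso₁₂ _ T (F.map_distinguished _ hZ) hT e₁ e₂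
      (show F.map (F.preimage (e₁.hom ≫ T.mor₁ ≫ e₂.inv)) ≫ e₂.hom = e₁.hom ≫ T.mor₁ by
        rw [F.map_preimage, Category.assoc, Category.assoc, e₂.inv_hom_id, Category.comp_id])
    have e₃ : F.obj Z ≅ T.obj₃ := Triangle.π₃.mapIso E
    rw [key _ Z h₃ e₃]
    exact clTr_add hZ ((h _).1 (Q'.prop_of_iso e₁.symm h₁)) ((h _).1 (Q'.prop_of_iso e₂.symm h₂))
      ((h _).1 (Q'.prop_of_iso e₃.symm h₃))
  have e : ∀ X, Q X → g (f (KZero.clTr Q X)) = KZero.clTr Q X := fun X hX => by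
    rw [hf X hX, hg _ ((h X).2 hX), key _ X ((h X).2 hX) (Iso.refl _)]
  have e' : ∀ Y, Q' Y → f (g (KZero.clTr Q' Y)) = KZero.clTr Q' Y := fun Y hY => by
    rw [hg Y hY, hf _ ((h _).1 (Q'.prop_of_iso (hpre Y hY).some.symm hY)), clTr_iso h0' (hpre Y hY).some]
  have h1 : g.comp f = AddMonoidHom.id _ := QuotientAddGroup.addMonoidHom_ext _
    (FreeAbelianGroup.lift_ext _ _ fun X => by
      have := e X.1 X.2
      rw [clTr_eq_mk X.2] at this
      exact this)
  have h2 : f.comp g = AddMonoidHom.id _ := QuotientAddGroup.addMonoidHom_ext _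
    (FreeAbelianGroup.lift_ext _ _ fun X => by
      have := e' X.1 X.2
      rw [clTr_eq_mk X.2] at this
      exact this)
  exact ⟨AddMonoidHom.toAddEquiv f g h1 h2, hf⟩

end GrothLib.KDer
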